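import Cfsg.Agent.H951.Nt.Core

/-!
# The natural module of the alternating group modulo 2: `H ∩ x H x⁻¹ ≤ C(x)` (S3499 NAT2, helper951)
-/

set_option autoImplicit false
set_option linter.unusedSectionVars false

namespace Cfsg.Agent.H951.Nt

open Equiv QuadraticMap Cfsg.Agent.LieClassical.OrthCore Cfsg.Agent.H614.AMod
open scoped commutatorElement

variable {F V : Type*} [Field F] [AddCommGroup V] [Module F V] {Q : QuadraticForm F V} {k : ℕ}
  {w : Fin k → Fin k → V} {H : Subgroup (V ≃ₗ[F] V)}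

namespace Dat

variable (D : Dat Q w H)

include D

theorem six (z : Fin 6 → Fin k) (hz : Function.Injective z) {v : V}
    (hv : ∀ x y, polar Q v (w x y) = (∑ t, dl F (z t) x) + ∑ t, dl F (z t) y) (a b c d : Fin k) : v ≠ w a b + w c d := by
  rintro rfl
  refine D.no_six z hz a b c d fun x y => ?_
  rw [← hv x y, polar_add_left, D.gram, D.gram]
  ring

theorem six_u (a b c d : Fin k) : vu D.k9 w ≠ w a b + w c d := by
  refine D.six (pt D.k9 ∘ ![0, 1, 2, 3, 4, 5]) ((pt_inj D.k9).comp (by decide)) (fun x y => ?_) a b c d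
  rw [D.pu, Fin.sum_univ_six, Fin.sum_univ_six]
  rfl

theorem six_u' (a b c d : Fin k) : vu' D.k9 w ≠ w a b + w c d := by
  refine D.six (pt D.k9 ∘ ![0, 1, 2, 6, 7, 8]) ((pt_inj D.k9).comp (by decide)) (fun x y => ?_) a b c d
  rw [D.pu', Fin.sum_univ_six, Fin.sum_univ_six]
  rfl

theorem six_uu (a b c d : Fin k) : vu D.k9 w + vu' D.k9 w ≠ w a b + w c d := by
  refine D.six (pt D.k9 ∘ ![3, 4, 5, 6, 7, 8]) ((pt_inj D.k9).comp (by decide)) (fun x y => ?_) a b c d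
  rw [polar_add_left, D.pu, D.pu', Fin.sum_univ_six, Fin.sum_univ_six]
  have h2 := D.ch
  have e : ∀ i : Fin 6, (pt D.k9 ∘ ![3, 4, 5, 6, 7, 8]) i = pt D.k9 (![3, 4, 5, 6, 7, 8] i) := fun i => rfl
  rw [e, e, e, e, e, e]
  simp only [Matrix.cons_val]
  linear_combination (dl F (pt D.k9 0) x + dl F (pt D.k9 1) x + dl F (pt D.k9 2) x + dl F (pt D.k9 0) y + dl F (pt D.k9 1) y +
    dl F (pt D.k9 2) y) * h2

/-- if `x` maps `w i j` to some `w p q`, then `w i j` is fixed by `x` -/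
theorem claim {i j p q : Fin k} (h : D.xx (w i j) = w p q) :
    polar Q (w i j) (vu D.k9 w) = 0 ∧ polar Q (w i j) (vu' D.k9 w) = 0 := by
  rw [D.xx_apply] at h
  have e := D.vadd (w i j)
  rcases D.two (polar Q (w i j) (vu D.k9 w)) with h1 | h1 <;> rcases D.two (polar Q (w i j) (vu' D.k9 w)) with h2 | h2
  · exact ⟨h1, h2⟩
  · exfalso
    rw [h1, h2, one_smul, zero_add, one_smul] at h
    refine D.six_uu p q i j ?_
    rw [← h]
    linear_combination (norm := module) -e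
  · exfalso
    rw [h1, h2, zero_smul, add_zero, add_zero, one_smul] at h
    refine D.six_u p q i j ?_
    rw [← h]
    linear_combination (norm := module) -e
  · exfalso
    rw [h1, h2, one_smul, D.add_self, zero_smul, add_zero] at h
    refine D.six_u' p q i j ?_
    rw [← h]
    linear_combination (norm := module) -e

theorem xx_fix {v : V} (h1 : polar Q v (vu D.k9 w) = 0) (h2 : polar Q v (vu' D.k9 w) = 0) : D.xx v = v := by
  rw [D.xx_apply, h1, h2, zero_smul, add_zero, add_zero, zero_smul, add_zero]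

theorem pw (i j : Fin 9) : polar Q (w (pt D.k9 i) (pt D.k9 j)) (vu D.k9 w) =
      (dl F 0 i + dl F 1 i + dl F 2 i + dl F 3 i + dl F 4 i + dl F 5 i) +
      (dl F 0 j + dl F 1 j + dl F 2 j + dl F 3 j + dl F 4 j + dl F 5 j) := by
  rw [polar_comm, D.pu]
  simp only [D.dpt]

theorem pw' (i j : Fin 9) : polar Q (w (pt D.k9 i) (pt D.k9 j)) (vu' D.k9 w) =
      (dl F 0 i + dl F 1 i + dl F 2 i + dl F 6 i + dl F 7 i + dl F 8 i) +
      (dl F 0 j + dl F 1 j + dl F 2 j + dl F 6 j + dl F 7 j + dl F 8 j) := by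
  rw [polar_comm, D.pu']
  simp only [D.dpt]

theorem xx_not_mem : D.xx ∉ H := by
  intro h
  obtain ⟨σ, hσ⟩ := D.hA _ h
  have h1 := (D.claim (hσ (pt D.k9 0) (pt D.k9 3))).2
  rw [D.pw'] at h1
  simp only [dl, Fin.reduceEq, if_false, if_true] at h1
  simp at h1

/-- `w i j` for `i`, `j` in the same block is fixed by `x` -/
theorem blk (i j : Fin 9) (h : (i.1 / 3 = j.1 / 3)) : D.xx (w (pt D.k9 i) (pt D.k9 j)) = w (pt D.k9 i) (pt D.k9 j) := by
  have h11 := D.add_self (1 : F)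
  refine D.xx_fix ?_ ?_
  · rw [D.pw]
    revert h
    fin_cases i <;> fin_cases j <;> simp [dl, h11]
  · rw [D.pw']
    revert h
    fin_cases i <;> fin_cases j <;> simp [dl, h11]

theorem same {g b : V ≃ₗ[F] V} (hgb : ∀ v, g (D.xx v) = D.xx (b v)) {σ τ : Perm (Fin k)}
    (hσ : ∀ i j, g (w i j) = w (σ i) (σ j)) (hτ : ∀ i j, b (w i j) = w (τ i) (τ j)) {i j l : Fin 9} (hij : i ≠ j)
    (hil : i ≠ l) (hjl : j ≠ l) (h1 : i.1 / 3 = j.1 / 3) (h2 : i.1 / 3 = l.1 / 3) : σ (pt D.k9 i) = τ (pt D.k9 i) := by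
  have key : ∀ j : Fin 9, i ≠ j → i.1 / 3 = j.1 / 3 →
      (σ (pt D.k9 i) = τ (pt D.k9 i) ∧ σ (pt D.k9 j) = τ (pt D.k9 j)) ∨
      (σ (pt D.k9 i) = τ (pt D.k9 j) ∧ σ (pt D.k9 j) = τ (pt D.k9 i)) := by
    intro j hij h
    have a1 := hgb (w (pt D.k9 i) (pt D.k9 j))
    rw [D.blk i j h, hσ, hτ] at a1
    have a2 := D.claim a1.symm
    rw [D.xx_fix a2.1 a2.2] at a1
    exact D.eq_of (fun e => pt_ne D.k9 hij (σ.injective e)) a1
  rcases key j hij h1 with c1 | c1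
  · exact c1.1
  · rcases key l hil h2 with c2 | c2
    · exact c2.1
    · exact absurd (τ.injective (c1.1.symm.trans c2.1)) (pt_ne D.k9 hjl)

/-- conjugation inside the plane -/
theorem conj_cases {g : V ≃ₗ[F] V} (hg : g ∈ O Q) {c1 c2 d1 d2 : F} (h1 : g (vu D.k9 w) = c1 • vu' D.k9 w + c2 • vu D.k9 w)
    (h2 : g (vu' D.k9 w) = d1 • vu' D.k9 w + d2 • vu D.k9 w) : g * D.xx * g⁻¹ = D.xx ∨ g * D.xx * g⁻¹ = D.xx⁻¹ := by
  have h3 : c1 * d2 + c2 * d1 = 1 := by
    have a1 := D.puu'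
    rw [← polar_map hg, h1, h2] at a1
    simp only [polar_add_left, polar_add_right, polar_smul_left, polar_smul_right, smul_eq_mul, D.pself, D.puu'] at a1
    rw [polar_comm _ (vu' D.k9 w), D.puu'] at a1
    linear_combination a1
  have key : ∀ v, (g * D.xx * g⁻¹) v = v + (polar Q v (vu' D.k9 w) * (d1 * d1 + c1 * c1 + c1 * d1) +
      polar Q v (vu D.k9 w) * (d1 * d2 + c1 * c2 + c1 * d2)) • vu' D.k9 w +
      (polar Q v (vu' D.k9 w) * (d1 * d2 + c1 * c2 + c2 * d1) +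
      polar Q v (vu D.k9 w) * (d2 * d2 + c2 * c2 + c2 * d2)) • vu D.k9 w := by
    intro v
    rw [D.conj_apply hg, h1, h2]
    simp only [polar_add_right, polar_smul_right, smul_eq_mul]
    module
  have n1 : d1 * d1 + c1 * c1 + c1 * d1 = 1 := by
    rcases D.two c1 with r | r <;> rcases D.two d1 with s | s <;> rw [r, s] at h3 ⊢
    · simp at h3
    · simp
    · simp
    · linear_combination D.ch
  have n2 : d2 * d2 + c2 * c2 + c2 * d2 = 1 := by
    rcases D.two c2 with r | r <;> rcases D.two d2 with s | s <;> rw [r, s] at h3 ⊢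
    · simp at h3
    · simp
    · simp
    · linear_combination D.ch
  rcases D.two (d1 * d2 + c1 * c2 + c1 * d2) with m1 | m1
  · left
    have m2 : d1 * d2 + c1 * c2 + c2 * d1 = 1 := by
      linear_combination h3 - m1 + (d1 * d2 + c1 * c2) * D.ch
    apply LinearEquiv.ext
    intro v
    rw [key, n1, n2, m1, m2, D.xx_apply]
    module
  · right
    have m2 : d1 * d2 + c1 * c2 + c2 * d1 = 0 := by
      linear_combination h3 - m1 + (d1 * d2 + c1 * c2) * D.ch
    apply LinearEquiv.ext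
    intro v
    rw [key, n1, n2, m1, m2, D.xx_inv_apply]
    module

theorem comm {g : V ≃ₗ[F] V} (hg : g ∈ H) (hb : D.xx⁻¹ * g * D.xx ∈ H) : g * D.xx = D.xx * g := by
  obtain ⟨σ, hσ⟩ := D.hA _ hg
  obtain ⟨τ, hτ⟩ := D.hA _ hb
  have hgb : ∀ v, g (D.xx v) = D.xx ((D.xx⁻¹ * g * D.xx) v) := by
    intro v
    change (g * D.xx) v = (D.xx * (D.xx⁻¹ * g * D.xx)) v
    rw [← mul_assoc, ← mul_assoc, mul_inv_cancel, one_mul]
  have s0 : σ (pt D.k9 0) = τ (pt D.k9 0) := D.same hgb hσ hτ (i := 0) (j := 1) (l := 2) (by decide) (by decide)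
    (by decide) (by decide) (by decide)
  have s3 : σ (pt D.k9 3) = τ (pt D.k9 3) := D.same hgb hσ hτ (i := 3) (j := 4) (l := 5) (by decide) (by decide)
    (by decide) (by decide) (by decide)
  have s6 : σ (pt D.k9 6) = τ (pt D.k9 6) := D.same hgb hσ hτ (i := 6) (j := 7) (l := 8) (by decide) (by decide)
    (by decide) (by decide) (by decide)
  have x1 : D.xx (w (pt D.k9 0) (pt D.k9 6)) = w (pt D.k9 0) (pt D.k9 6) + vu D.k9 w := by
    rw [D.xx_apply, D.pw, D.pw']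
    simp only [dl, Fin.reduceEq, if_false, if_true]
    have e := D.ch
    linear_combination (norm := module) (e • vu' D.k9 w) + (e • vu D.k9 w)
  have x2 : D.xx (w (pt D.k9 3) (pt D.k9 6)) = w (pt D.k9 3) (pt D.k9 6) + vu' D.k9 w := by
    rw [D.xx_apply, D.pw, D.pw']
    simp only [dl, Fin.reduceEq, if_false, if_true]
    have e := D.ch
    linear_combination (norm := module) (e • vu D.k9 w)
  have g1 : g (vu D.k9 w) = polar Q (w (σ (pt D.k9 0)) (σ (pt D.k9 6))) (vu' D.k9 w) • vu' D.k9 w +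
      (polar Q (w (σ (pt D.k9 0)) (σ (pt D.k9 6))) (vu D.k9 w) + polar Q (w (σ (pt D.k9 0)) (σ (pt D.k9 6))) (vu' D.k9 w)) •
        vu D.k9 w := by
    have a1 := hgb (w (pt D.k9 0) (pt D.k9 6))
    rw [x1, map_add, hσ, hτ, ← s0, ← s6, D.xx_apply, add_assoc] at a1
    exact add_left_cancel a1
  have g2 : g (vu' D.k9 w) = polar Q (w (σ (pt D.k9 3)) (σ (pt D.k9 6))) (vu' D.k9 w) • vu' D.k9 w +
      (polar Q (w (σ (pt D.k9 3)) (σ (pt D.k9 6))) (vu D.k9 w) + polar Q (w (σ (pt D.k9 3)) (σ (pt D.k9 6))) (vu' D.k9 w)) •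
        vu D.k9 w := by
    have a1 := hgb (w (pt D.k9 3) (pt D.k9 6))
    rw [x2, map_add, hσ, hτ, ← s3, ← s6, D.xx_apply, add_assoc] at a1
    exact add_left_cancel a1
  rcases D.conj_cases (D.HO hg) g1 g2 with h | h
  · rw [mul_inv_eq_iff_eq_mul] at h
    exact h
  · exfalso
    apply D.xx_not_mem
    rw [mul_inv_eq_iff_eq_mul] at h
    rw [mul_assoc, h, ← mul_assoc, ← mul_inv_rev, D.xx_xx, inv_inv] at hb
    exact (Subgroup.mul_mem_cancel_right H hg).1 hb

theorem core : ∃ x ∈ ⁅O Q, O Q⁆, x ∉ H ∧ (∀ g ∈ H, x⁻¹ * g * x ∈ H → g * x = x * g) ∧ x * x ≠ 1 ∧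
    ∃ t ∈ H, t * x * t⁻¹ = x⁻¹ :=
  ⟨D.xx, D.xx_mem, D.xx_not_mem, fun _ hg hb => D.comm hg hb, D.xx_xx_ne, D.exists_t⟩

end Dat

end Cfsg.Agent.H951.Nt
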