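import Cfsg.Agent.H951.Nt.Gram

/-!
# The natural module of the alternating group modulo 2: the element `x` of order 3 (S3499 NAT2, helper951)

`x = r_u r_u'`, `u = w_12 + w_34 + w_56`, `u' = w_12 + w_37 + w_89`.
* `Dat.core` : `x ∈ [O, O]`, `x ∉ H`, `H ∩ x H x⁻¹` centralises `x`, and an element of `H` inverts `x`.
-/

set_option autoImplicit false
set_option linter.unusedSectionVars false

namespace Cfsg.Agent.H951.Nt

open Equiv QuadraticMap Cfsg.Agent.LieClassical.OrthCore Cfsg.Agent.H614.AMod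
open Equiv.Perm (sign viaFintypeEmbedding)
open scoped commutatorElement

variable {F V : Type*} [Field F] [AddCommGroup V] [Module F V] {Q : QuadraticForm F V} {k : ℕ}
  {w : Fin k → Fin k → V} {H : Subgroup (V ≃ₗ[F] V)}

namespace Dat

variable (D : Dat Q w H)

/-- the nine points -/
def pt (h : 9 ≤ k) : Fin 9 → Fin k := Fin.castLE h

theorem pt_inj (h : 9 ≤ k) : Function.Injective (pt h) := Fin.castLE_injective h

theorem pt_ne (h : 9 ≤ k) {i j : Fin 9} (hij : i ≠ j) : pt h i ≠ pt h j := fun e => hij (pt_inj h e)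

/-- `u` -/
def vu (h : 9 ≤ k) (w : Fin k → Fin k → V) : V := w (pt h 0) (pt h 1) + w (pt h 2) (pt h 3) + w (pt h 4) (pt h 5)

/-- `u'` -/
def vu' (h : 9 ≤ k) (w : Fin k → Fin k → V) : V := w (pt h 0) (pt h 1) + w (pt h 2) (pt h 6) + w (pt h 7) (pt h 8)

/-- the permutations of the nine points -/
noncomputable def lf (h : 9 ≤ k) (τ : Perm (Fin 9)) : Perm (Fin k) := τ.viaFintypeEmbedding ⟨pt h, pt_inj h⟩

theorem lf_apply (h : 9 ≤ k) (τ : Perm (Fin 9)) (i : Fin 9) : lf h τ (pt h i) = pt h (τ i) :=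
  Equiv.Perm.viaFintypeEmbedding_apply_image τ ⟨pt h, pt_inj h⟩ i

theorem lf_sign (h : 9 ≤ k) (τ : Perm (Fin 9)) : sign (lf h τ) = sign τ :=
  Equiv.Perm.viaFintypeEmbedding_sign τ ⟨pt h, pt_inj h⟩

include D

theorem ex_lf (τ : Perm (Fin 9)) (hτ : sign τ = 1) : ∃ g ∈ H, ∀ i j, g (w (pt D.k9 i) (pt D.k9 j)) = w (pt D.k9 (τ i)) (pt D.k9 (τ j)) := by
  obtain ⟨g, hg, h⟩ := D.hB ⟨lf D.k9 τ, by rw [Perm.mem_alternatingGroup, lf_sign, hτ]⟩
  refine ⟨g, hg, fun i j => ?_⟩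
  rw [h]
  change w (lf D.k9 τ (pt D.k9 i)) (lf D.k9 τ (pt D.k9 j)) = _
  rw [lf_apply, lf_apply]

/-- the coordinate of `u` -/
theorem pu (i j : Fin k) : polar Q (vu D.k9 w) (w i j) =
    (dl F (pt D.k9 0) i + dl F (pt D.k9 1) i + dl F (pt D.k9 2) i + dl F (pt D.k9 3) i + dl F (pt D.k9 4) i + dl F (pt D.k9 5) i) +
    (dl F (pt D.k9 0) j + dl F (pt D.k9 1) j + dl F (pt D.k9 2) j + dl F (pt D.k9 3) j + dl F (pt D.k9 4) j +
      dl F (pt D.k9 5) j) := by
  unfold vu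
  rw [polar_add_left, polar_add_left, D.gram, D.gram, D.gram]
  ring

theorem pu' (i j : Fin k) : polar Q (vu' D.k9 w) (w i j) =
    (dl F (pt D.k9 0) i + dl F (pt D.k9 1) i + dl F (pt D.k9 2) i + dl F (pt D.k9 6) i + dl F (pt D.k9 7) i + dl F (pt D.k9 8) i) +
    (dl F (pt D.k9 0) j + dl F (pt D.k9 1) j + dl F (pt D.k9 2) j + dl F (pt D.k9 6) j + dl F (pt D.k9 7) j +
      dl F (pt D.k9 8) j) := by
  unfold vu'
  rw [polar_add_left, polar_add_left, D.gram, D.gram, D.gram]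
  ring

theorem dpt (i j : Fin 9) : dl F (pt D.k9 i) (pt D.k9 j) = dl F i j := by
  by_cases h : i = j
  · rw [h, dl_self, dl_self]
  · rw [dl_ne h, dl_ne (pt_ne D.k9 h)]

theorem puu' : polar Q (vu D.k9 w) (vu' D.k9 w) = 1 := by
  have h : ∀ i j : Fin 9, polar Q (vu D.k9 w) (w (pt D.k9 i) (pt D.k9 j)) =
      (dl F 0 i + dl F 1 i + dl F 2 i + dl F 3 i + dl F 4 i + dl F 5 i) +
      (dl F 0 j + dl F 1 j + dl F 2 j + dl F 3 j + dl F 4 j + dl F 5 j) := fun i j => by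
    rw [D.pu]
    simp only [D.dpt]
  rw [vu', polar_add_right, polar_add_right, h, h, h]
  simp only [dl, Fin.reduceEq, if_false, if_true]
  linear_combination D.ch

theorem qu : Q (vu D.k9 w) = 1 := by
  have h1 := Q_add (Q := Q) (w (pt D.k9 0) (pt D.k9 1) + w (pt D.k9 2) (pt D.k9 3)) (w (pt D.k9 4) (pt D.k9 5))
  have h2 := Q_add (Q := Q) (w (pt D.k9 0) (pt D.k9 1)) (w (pt D.k9 2) (pt D.k9 3))
  rw [D.q1 (pt_ne D.k9 (by decide)), D.q1 (pt_ne D.k9 (by decide)), D.gram] at h2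
  rw [h2, D.q1 (pt_ne D.k9 (by decide)), polar_add_left, D.gram, D.gram] at h1
  simp only [D.dpt] at h1
  simp only [dl, Fin.reduceEq, if_false] at h1
  rw [vu, h1]
  linear_combination D.ch

theorem qu' : Q (vu' D.k9 w) = 1 := by
  have h1 := Q_add (Q := Q) (w (pt D.k9 0) (pt D.k9 1) + w (pt D.k9 2) (pt D.k9 6)) (w (pt D.k9 7) (pt D.k9 8))
  have h2 := Q_add (Q := Q) (w (pt D.k9 0) (pt D.k9 1)) (w (pt D.k9 2) (pt D.k9 6))
  rw [D.q1 (pt_ne D.k9 (by decide)), D.q1 (pt_ne D.k9 (by decide)), D.gram] at h2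
  rw [h2, D.q1 (pt_ne D.k9 (by decide)), polar_add_left, D.gram, D.gram] at h1
  simp only [D.dpt] at h1
  simp only [dl, Fin.reduceEq, if_false] at h1
  rw [vu', h1]
  linear_combination D.ch

omit D in
/-- the product of two reflections -/
noncomputable def rr (Q : QuadraticForm F V) (a b : V) (ha : Q a ≠ 0) (hb : Q b ≠ 0) : V ≃ₗ[F] V := refl Q a ha * refl Q b hb

theorem rr_apply {a b : V} (ha : Q a = 1) (hb : Q b = 1) (hab : polar Q a b = 1) (v : V) :
    rr Q a b (by rw [ha]; exact one_ne_zero) (by rw [hb]; exact one_ne_zero) v =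
      v + polar Q v b • b + (polar Q v a + polar Q v b) • a := by
  have ha0 : Q a ≠ 0 := by rw [ha]; exact one_ne_zero
  have hb0 : Q b ≠ 0 := by rw [hb]; exact one_ne_zero
  change refl Q a ha0 (refl Q b hb0 v) = _
  rw [LieClassical.OrthCore.refl_apply ha0, LieClassical.OrthCore.refl_apply hb0, ha, hb, inv_one, one_mul, one_mul, polar_sub_right, polar_smul_right, hab,
    polar_comm _ b v, polar_comm _ a v, smul_eq_mul, mul_one]
  have h2 := D.ch
  have e : ∀ z : V, (2 : F) • z = 0 := fun z => by rw [h2, zero_smul]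
  have e1 := e (polar Q v b • b)
  have e2 := e (polar Q v a • a)
  linear_combination (norm := module) -e1 - e2

/-- `x` -/
noncomputable def xx : V ≃ₗ[F] V := rr Q (vu D.k9 w) (vu' D.k9 w) (by rw [D.qu]; exact one_ne_zero) (by rw [D.qu']; exact one_ne_zero)

theorem xx_apply (v : V) : D.xx v = v + polar Q v (vu' D.k9 w) • vu' D.k9 w +
    (polar Q v (vu D.k9 w) + polar Q v (vu' D.k9 w)) • vu D.k9 w :=
  D.rr_apply D.qu D.qu' D.puu' v

theorem xx_inv_apply (v : V) : D.xx⁻¹ v = v + polar Q v (vu D.k9 w) • vu D.k9 w +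
    (polar Q v (vu' D.k9 w) + polar Q v (vu D.k9 w)) • vu' D.k9 w := by
  have h1 : D.xx⁻¹ = rr Q (vu' D.k9 w) (vu D.k9 w) (by rw [D.qu']; exact one_ne_zero) (by rw [D.qu]; exact one_ne_zero) := by
    rw [xx, rr, rr, mul_inv_rev, refl_inv, refl_inv]
  rw [h1]
  exact D.rr_apply D.qu' D.qu (by rw [polar_comm]; exact D.puu') v

theorem xx_xx : D.xx * D.xx = D.xx⁻¹ := by
  apply LinearEquiv.ext
  intro v
  rw [D.xx_inv_apply]
  change D.xx (D.xx v) = _
  have e : ∀ z : V, (2 : F) • z = 0 := fun z => by rw [D.ch, zero_smul]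
  rw [D.xx_apply (D.xx v)]
  have h1 : polar Q (D.xx v) (vu D.k9 w) = polar Q v (vu D.k9 w) + polar Q v (vu' D.k9 w) := by
    rw [D.xx_apply, polar_add_left, polar_add_left, polar_smul_left, polar_smul_left, D.pself, polar_comm _ (vu' D.k9 w),
      D.puu', smul_eq_mul, smul_eq_mul, mul_zero, mul_one, add_zero]
  have h2 : polar Q (D.xx v) (vu' D.k9 w) = polar Q v (vu D.k9 w) := by
    rw [D.xx_apply, polar_add_left, polar_add_left, polar_smul_left, polar_smul_left, D.pself,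
      D.puu', smul_eq_mul, smul_eq_mul, mul_zero, mul_one, add_zero]
    linear_combination (polar Q v (vu' D.k9 w)) * D.ch
  rw [h1, h2, D.xx_apply]
  have e1 := e ((polar Q v (vu D.k9 w) + polar Q v (vu' D.k9 w)) • vu D.k9 w)
  linear_combination (norm := module) e1

theorem xx_u : D.xx (vu D.k9 w) = vu' D.k9 w := by
  rw [D.xx_apply, D.puu', D.pself, zero_add, one_smul, one_smul, add_comm (vu D.k9 w), add_assoc, D.vadd, add_zero]

theorem xx_xx_ne : D.xx * D.xx ≠ 1 := by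
  intro h
  rw [D.xx_xx, inv_eq_one] at h
  have h1 := D.xx_u
  rw [h] at h1
  change vu D.k9 w = vu' D.k9 w at h1
  have h2 := D.puu'
  rw [← h1, D.pself] at h2
  exact zero_ne_one h2

theorem xx_mem : D.xx ∈ ⁅O Q, O Q⁆ := by
  obtain ⟨s, hs, h⟩ := D.ex_lf (swap 3 6 * swap 4 7 * swap 5 8 * swap 0 1) (by decide)
  have hsu : s (vu D.k9 w) = vu' D.k9 w := by
    rw [vu, map_add, map_add, h, h, h, vu']
    have e0 : (swap 3 6 * swap 4 7 * swap 5 8 * swap 0 1 : Perm (Fin 9)) 0 = 1 := by decide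
    have e1 : (swap 3 6 * swap 4 7 * swap 5 8 * swap 0 1 : Perm (Fin 9)) 1 = 0 := by decide
    have e2 : (swap 3 6 * swap 4 7 * swap 5 8 * swap 0 1 : Perm (Fin 9)) 2 = 2 := by decide
    have e3 : (swap 3 6 * swap 4 7 * swap 5 8 * swap 0 1 : Perm (Fin 9)) 3 = 6 := by decide
    have e4 : (swap 3 6 * swap 4 7 * swap 5 8 * swap 0 1 : Perm (Fin 9)) 4 = 7 := by decide
    have e5 : (swap 3 6 * swap 4 7 * swap 5 8 * swap 0 1 : Perm (Fin 9)) 5 = 8 := by decide
    rw [e0, e1, e2, e3, e4, e5, D.anti]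
  have hu0 : Q (vu D.k9 w) ≠ 0 := by rw [D.qu]; exact one_ne_zero
  have hu1 : Q (vu' D.k9 w) ≠ 0 := by rw [D.qu']; exact one_ne_zero
  have h1 : D.xx = ⁅refl Q (vu D.k9 w) hu0, s⁆ := by
    rw [commutatorElement_def, refl_inv, mul_assoc, mul_assoc, ← mul_assoc s]
    have h2 : s * refl Q (vu D.k9 w) hu0 * s⁻¹ = refl Q (vu' D.k9 w) hu1 := by
      rw [refl_conj (D.HO hs) hu0 (by rw [hsu]; exact hu1)]
      congr 1
    rw [h2]
    rfl
  rw [h1]
  exact Subgroup.commutator_mem_commutator (refl_mem_O _) (D.HO hs)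

/-- conjugates of `x` -/
theorem conj_apply {g : V ≃ₗ[F] V} (hg : g ∈ O Q) (v : V) : (g * D.xx * g⁻¹) v =
    v + polar Q v (g (vu' D.k9 w)) • g (vu' D.k9 w) +
      (polar Q v (g (vu D.k9 w)) + polar Q v (g (vu' D.k9 w))) • g (vu D.k9 w) := by
  change g (D.xx (g.symm v)) = _
  have h1 : ∀ z, polar Q (g.symm v) z = polar Q v (g z) := fun z => by
    rw [← polar_map hg, LinearEquiv.apply_symm_apply]
  rw [D.xx_apply, map_add, map_add, map_smul, map_smul, LinearEquiv.apply_symm_apply, h1, h1]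

theorem we (o i j : Fin k) : w i j = w i o + w j o := by
  rw [← D.w1 i o j, D.anti o j]

/-- an element of `H` inverting `x` -/
theorem exists_t : ∃ t ∈ H, t * D.xx * t⁻¹ = D.xx⁻¹ := by
  obtain ⟨t, ht, h⟩ := D.ex_lf (swap 0 3 * swap 1 4 * swap 2 5 * swap 6 7) (by decide)
  refine ⟨t, ht, ?_⟩
  have e0 : (swap 0 3 * swap 1 4 * swap 2 5 * swap 6 7 : Perm (Fin 9)) 0 = 3 := by decide
  have e1 : (swap 0 3 * swap 1 4 * swap 2 5 * swap 6 7 : Perm (Fin 9)) 1 = 4 := by decide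
  have e2 : (swap 0 3 * swap 1 4 * swap 2 5 * swap 6 7 : Perm (Fin 9)) 2 = 5 := by decide
  have e3 : (swap 0 3 * swap 1 4 * swap 2 5 * swap 6 7 : Perm (Fin 9)) 3 = 0 := by decide
  have e4 : (swap 0 3 * swap 1 4 * swap 2 5 * swap 6 7 : Perm (Fin 9)) 4 = 1 := by decide
  have e5 : (swap 0 3 * swap 1 4 * swap 2 5 * swap 6 7 : Perm (Fin 9)) 5 = 2 := by decide
  have e6 : (swap 0 3 * swap 1 4 * swap 2 5 * swap 6 7 : Perm (Fin 9)) 6 = 7 := by decide
  have e7 : (swap 0 3 * swap 1 4 * swap 2 5 * swap 6 7 : Perm (Fin 9)) 7 = 6 := by decide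
  have e8 : (swap 0 3 * swap 1 4 * swap 2 5 * swap 6 7 : Perm (Fin 9)) 8 = 8 := by decide
  have E : ∀ i j : Fin 9, w (pt D.k9 i) (pt D.k9 j) = w (pt D.k9 i) (pt D.k9 0) + w (pt D.k9 j) (pt D.k9 0) :=
    fun i j => D.we _ _ _
  have htu : t (vu D.k9 w) = vu D.k9 w := by
    rw [vu, map_add, map_add, h, h, h, e0, e1, e2, e3, e4, e5, E 3 4, E 5 0, E 1 2, E 0 1, E 2 3, E 4 5]
    abel
  have htu' : t (vu' D.k9 w) = vu D.k9 w + vu' D.k9 w := by
    rw [vu, vu', map_add, map_add, h, h, h, e0, e1, e2, e6, e7, e8, E 3 4, E 5 7, E 6 8, E 0 1, E 2 3, E 4 5, E 2 6, E 7 8]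
    have a1 := D.vadd (w (pt D.k9 0) (pt D.k9 0) + w (pt D.k9 1) (pt D.k9 0) + w (pt D.k9 2) (pt D.k9 0))
    rw [← sub_eq_zero]
    rw [← sub_eq_zero, sub_zero] at a1
    have a2 := neg_eq_zero.2 a1
    rw [← a2]
    abel
  apply LinearEquiv.ext
  intro v
  rw [D.conj_apply (D.HO ht), htu, htu', D.xx_inv_apply, polar_add_right]
  have e : ∀ z : V, (2 : F) • z = 0 := fun z => by rw [D.ch, zero_smul]
  have a1 := e ((polar Q v (vu D.k9 w) + polar Q v (vu' D.k9 w)) • vu D.k9 w)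
  linear_combination (norm := module) a1

end Dat

end Cfsg.Agent.H951.Nt
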