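import Cfsg.Agent.LieClassical.OrthCore
import Cfsg.Agent.H614.AMod.Emb

/-!
# The natural module of the alternating group modulo 2: the form (S3499 NAT2, helper951)

`Dat Q w H` : `V` is spanned by the vectors `w i j` (`= e_i + e_j`), `i, j ∈ Fin k`, `k ≥ 9`, `k ≠ 10`, `H ≤ O(Q)` permutes them
and induces at least the alternating group.
* `Dat.gram`, `Dat.q1` : the form is the natural one;
* `Dat.eq_of` : `w p q` determines `{p, q}`;
* `Dat.no_six` : the sum of two vectors `w` is not a sum of six `e_i`.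
-/

set_option autoImplicit false
set_option linter.unusedSectionVars false

namespace Cfsg.Agent.H951.Nt

open Equiv Equiv.Perm QuadraticMap Cfsg.Agent.LieClassical.OrthCore Cfsg.Agent.H614.AMod

variable {F V : Type*} [Field F] [AddCommGroup V] [Module F V] {Q : QuadraticForm F V} {k : ℕ}
  {w : Fin k → Fin k → V} {H : Subgroup (V ≃ₗ[F] V)}

/-- the setting -/
structure Dat (Q : QuadraticForm F V) (w : Fin k → Fin k → V) (H : Subgroup (V ≃ₗ[F] V)) : Prop where
  two : ∀ a : F, a = 0 ∨ a = 1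
  ch : (2 : F) = 0
  nd : Nondeg Q
  k9 : 9 ≤ k
  k10 : k ≠ 10
  w0 : ∀ i, w i i = 0
  w1 : ∀ i j l, w i j + w j l = w i l
  wne : ∀ i j, i ≠ j → w i j ≠ 0
  ws : Submodule.span F (Set.range fun p : Fin k × Fin k => w p.1 p.2) = ⊤
  HO : H ≤ O Q
  hA : ∀ g ∈ H, ∃ σ : Perm (Fin k), ∀ i j, g (w i j) = w (σ i) (σ j)
  hB : ∀ σ : alternatingGroup (Fin k), ∃ g ∈ H, ∀ i j, g (w i j) = w ((σ : Perm (Fin k)) i) ((σ : Perm (Fin k)) j)

/-- Kronecker delta -/
def dl (F : Type*) [Field F] {k : ℕ} (i j : Fin k) : F := if i = j then 1 else 0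

theorem dl_self (i : Fin k) : dl F i i = 1 := if_pos rfl
theorem dl_ne {i j : Fin k} (h : i ≠ j) : dl F i j = 0 := if_neg h
theorem dl_comm (i j : Fin k) : dl F i j = dl F j i := by
  unfold dl
  by_cases h : i = j
  · rw [if_pos h, if_pos h.symm]
  · rw [if_neg h, if_neg (Ne.symm h)]

namespace Dat

variable (D : Dat Q w H)

include D

theorem add_self (a : F) : a + a = 0 := by
  rw [← two_mul, D.ch, zero_mul]

theorem vadd (v : V) : v + v = 0 := by
  rw [← two_smul F v, D.ch, zero_smul]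

theorem neg_eq (v : V) : -v = v := neg_eq_of_add_eq_zero_left (D.vadd v)

theorem eq_of_add {a b : V} (h : a + b = 0) : a = b := by
  rw [eq_neg_of_add_eq_zero_left h, D.neg_eq]

theorem eq_of_add' {a b : F} (h : a + b = 0) : a = b := by
  have h1 := D.add_self b
  exact add_right_cancel (h.trans h1.symm)

theorem anti (i j : Fin k) : w j i = w i j := by
  have h := D.w1 i j i
  rw [D.w0] at h
  exact (D.eq_of_add h).symm

theorem ex_not (s : Finset (Fin k)) (hs : s.card < 9) : ∃ x, x ∉ s := by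
  by_contra hc
  push Not at hc
  have h1 : (Finset.univ : Finset (Fin k)) ⊆ s := fun x _ => hc x
  have h2 := Finset.card_le_card h1
  rw [Finset.card_univ, Fintype.card_fin] at h2
  have := D.k9
  omega

theorem inv (σ : alternatingGroup (Fin k)) (i j p q : Fin k) :
    polar Q (w ((σ : Perm (Fin k)) i) ((σ : Perm (Fin k)) j)) (w ((σ : Perm (Fin k)) p) ((σ : Perm (Fin k)) q)) =
      polar Q (w i j) (w p q) := by
  obtain ⟨g, hg, h⟩ := D.hB σ
  rw [← h, ← h, polar_map (D.HO hg)]

theorem invQ (σ : alternatingGroup (Fin k)) (i j : Fin k) :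
    Q (w ((σ : Perm (Fin k)) i) ((σ : Perm (Fin k)) j)) = Q (w i j) := by
  obtain ⟨g, hg, h⟩ := D.hB σ
  rw [← h, mem_O.1 (D.HO hg)]

theorem tr4 {a b c d a' b' c' d' : Fin k} (h1 : a ≠ b) (h2 : a ≠ c) (h3 : a ≠ d) (h4 : b ≠ c) (h5 : b ≠ d) (h6 : c ≠ d)
    (h1' : a' ≠ b') (h2' : a' ≠ c') (h3' : a' ≠ d') (h4' : b' ≠ c') (h5' : b' ≠ d') (h6' : c' ≠ d') :
    ∃ σ : alternatingGroup (Fin k), (σ : Perm (Fin k)) a = a' ∧ (σ : Perm (Fin k)) b = b' ∧ (σ : Perm (Fin k)) c = c' ∧
      (σ : Perm (Fin k)) d = d' := by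
  have inj : ∀ {a b c d : Fin k}, a ≠ b → a ≠ c → a ≠ d → b ≠ c → b ≠ d → c ≠ d →
      Function.Injective ![a, b, c, d] := by
    intro a b c d h1 h2 h3 h4 h5 h6 i j hij
    fin_cases i <;> fin_cases j <;> simp_all
  obtain ⟨g, hg⟩ := exists_move (k := 4) (α := Fin k) (by rw [Fintype.card_fin]; have := D.k9; omega)
    ⟨_, inj h1 h2 h3 h4 h5 h6⟩ ⟨_, inj h1' h2' h3' h4' h5' h6'⟩
  exact ⟨g, hg 0, hg 1, hg 2, hg 3⟩

/-- the form on disjoint pairs -/
theorem disj {i j p q : Fin k} (h1 : i ≠ j) (h2 : i ≠ p) (h3 : i ≠ q) (h4 : j ≠ p) (h5 : j ≠ q) (h6 : p ≠ q) :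
    polar Q (w i j) (w p q) = 0 := by
  obtain ⟨x, hx⟩ := D.ex_not {i, j, p, q} (lt_of_le_of_lt (Finset.card_le_four) (by norm_num))
  simp only [Finset.mem_insert, Finset.mem_singleton, not_or] at hx
  obtain ⟨hxi, hxj, hxp, hxq⟩ := hx
  obtain ⟨σ, e1, e2, e3, e4⟩ := D.tr4 h1 h2 h3 h4 h5 h6 (Ne.symm hxi) h2 h3 hxp hxq h6
  obtain ⟨τ, f1, f2, f3, f4⟩ := D.tr4 h1 h2 h3 h4 h5 h6 hxj hxp hxq h4 h5 h6
  have a1 := D.inv σ i j p q
  have a2 := D.inv τ i j p q
  rw [e1, e2, e3, e4] at a1
  rw [f1, f2, f3, f4] at a2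
  have a3 : polar Q (w i j) (w p q) = polar Q (w i x) (w p q) + polar Q (w x j) (w p q) := by
    rw [← polar_add_left, D.w1]
  rw [a1, a2] at a3
  rw [D.add_self] at a3
  exact a3

/-- the form on pairs with a common point -/
theorem path {i j l i' j' l' : Fin k} (h1 : i ≠ j) (h2 : i ≠ l) (h3 : j ≠ l) (h1' : i' ≠ j') (h2' : i' ≠ l')
    (h3' : j' ≠ l') : polar Q (w i j) (w j l) = polar Q (w i' j') (w j' l') := by
  obtain ⟨x, hx⟩ := D.ex_not {i, j, l} (lt_of_le_of_lt (Finset.card_le_three) (by norm_num))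
  obtain ⟨x', hx'⟩ := D.ex_not {i', j', l'} (lt_of_le_of_lt (Finset.card_le_three) (by norm_num))
  simp only [Finset.mem_insert, Finset.mem_singleton, not_or] at hx hx'
  obtain ⟨σ, e1, e2, e3, -⟩ := D.tr4 h1' h2' (Ne.symm hx'.1) h3' (Ne.symm hx'.2.1) (Ne.symm hx'.2.2)
    h1 h2 (Ne.symm hx.1) h3 (Ne.symm hx.2.1) (Ne.symm hx.2.2)
  have a1 := D.inv σ i' j' j' l'
  rwa [e1, e2, e3] at a1

theorem qval {i j i' j' : Fin k} (h1 : i ≠ j) (h1' : i' ≠ j') : Q (w i j) = Q (w i' j') := by
  obtain ⟨x, hx⟩ := D.ex_not {i, j} (lt_of_le_of_lt (Finset.card_le_two) (by norm_num))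
  obtain ⟨x', hx'⟩ := D.ex_not {i', j'} (lt_of_le_of_lt (Finset.card_le_two) (by norm_num))
  obtain ⟨y, hy⟩ := D.ex_not {i, j, x} (lt_of_le_of_lt (Finset.card_le_three) (by norm_num))
  obtain ⟨y', hy'⟩ := D.ex_not {i', j', x'} (lt_of_le_of_lt (Finset.card_le_three) (by norm_num))
  simp only [Finset.mem_insert, Finset.mem_singleton, not_or] at hx hx' hy hy'
  obtain ⟨σ, e1, e2, -, -⟩ := D.tr4 h1' (Ne.symm hx'.1) (Ne.symm hy'.1) (Ne.symm hx'.2) (Ne.symm hy'.2.1) (Ne.symm hy'.2.2)
    h1 (Ne.symm hx.1) (Ne.symm hy.1) (Ne.symm hx.2) (Ne.symm hy.2.1) (Ne.symm hy.2.2)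
  have a1 := D.invQ σ i' j'
  rwa [e1, e2] at a1

theorem pself (v : V) : polar Q v v = 0 := by
  rw [polar_self', D.ch, zero_mul]

theorem gram' : ∃ m : F, (∀ i j p q, polar Q (w i j) (w p q) = m * (dl F i p + dl F i q + dl F j p + dl F j q)) ∧
    ∀ i j, i ≠ j → Q (w i j) = m := by
  have hk := D.k9
  let a : Fin k := ⟨0, by omega⟩
  let b : Fin k := ⟨1, by omega⟩
  let c : Fin k := ⟨2, by omega⟩
  have hab : a ≠ b := by simp [a, b]
  have hac : a ≠ c := by simp [a, c]
  have hbc : b ≠ c := by simp [b, c]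
  obtain ⟨m, hm⟩ : ∃ m, m = polar Q (w a b) (w b c) := ⟨_, rfl⟩
  have key : ∀ {i j l : Fin k}, i ≠ j → i ≠ l → j ≠ l → polar Q (w i j) (w j l) = m := fun h1 h2 h3 => by
    rw [hm]; exact D.path h1 h2 h3 hab hac hbc
  have h11 : (1 : F) + 1 = 0 := D.add_self 1
  refine ⟨m, fun i j p q => ?_, fun i j hij => ?_⟩
  · by_cases hij : i = j
    · subst hij
      rw [D.w0, polar_zero_left]
      have h1 := D.add_self (dl F i p + dl F i q)
      linear_combination (-m) * h1
    by_cases hpq : p = q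
    · subst hpq
      rw [D.w0, polar_zero_right]
      have h1 := D.add_self (dl F i p + dl F j p)
      linear_combination (-m) * h1
    by_cases hip : i = p
    · subst hip
      by_cases hjq : j = q
      · subst hjq
        rw [D.pself, dl_self, dl_self, dl_ne hij, dl_ne (Ne.symm hij)]
        linear_combination (-m) * h11
      · rw [D.anti j i, key (Ne.symm hij) hjq hpq, dl_self, dl_ne hpq, dl_ne (Ne.symm hij), dl_ne hjq]
        ring
    by_cases hiq : i = q
    · subst hiq
      by_cases hjp : j = p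
      · subst hjp
        rw [D.anti i j, D.pself, dl_self, dl_self, dl_ne hij, dl_ne (Ne.symm hij)]
        linear_combination (-m) * h11
      · rw [D.anti j i, D.anti i p, key (Ne.symm hij) hjp hip, dl_self, dl_ne hip, dl_ne (Ne.symm hij), dl_ne hjp]
        ring
    by_cases hjp : j = p
    · subst hjp
      rw [key hij hiq hpq, dl_self, dl_ne hij, dl_ne hiq, dl_ne hpq]
      ring
    by_cases hjq : j = q
    · subst hjq
      rw [D.anti j p, key hij hip hjp, dl_self, dl_ne hij, dl_ne hip, dl_ne hjp]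
      ring
    rw [D.disj hij hip hiq hjp hjq hpq, dl_ne hip, dl_ne hiq, dl_ne hjp, dl_ne hjq]
    ring
  · obtain ⟨x, hx⟩ := D.ex_not {i, j} (lt_of_le_of_lt (Finset.card_le_two) (by norm_num))
    simp only [Finset.mem_insert, Finset.mem_singleton, not_or] at hx
    have h1 := Q_add (Q := Q) (w i x) (w x j)
    rw [D.w1, key (Ne.symm hx.1) hij hx.2, D.qval (Ne.symm hx.1) hij, D.qval hx.2 hij, D.add_self, zero_add] at h1
    exact h1

theorem gramq : (∀ i j p q, polar Q (w i j) (w p q) = dl F i p + dl F i q + dl F j p + dl F j q) ∧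
    ∀ i j, i ≠ j → Q (w i j) = 1 := by
  obtain ⟨m, h1, h2⟩ := D.gram'
  rcases D.two m with rfl | rfl
  · exfalso
    have hk := D.k9
    refine D.wne ⟨0, by omega⟩ ⟨1, by omega⟩ (by simp) (D.nd _ fun y => ?_)
    have hy : y ∈ Submodule.span F (Set.range fun p : Fin k × Fin k => w p.1 p.2) := by rw [D.ws]; trivial
    induction hy using Submodule.span_induction with
    | mem x hx =>
      obtain ⟨p, rfl⟩ := hx
      rw [h1, zero_mul]
    | zero => exact polar_zero_right _ _
    | add x y _ _ hx hy => rw [polar_add_right, hx, hy, add_zero]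
    | smul a x _ hx => rw [polar_smul_right, hx, smul_zero]
  · exact ⟨fun i j p q => by rw [h1, one_mul], h2⟩

theorem gram (i j p q : Fin k) : polar Q (w i j) (w p q) = dl F i p + dl F i q + dl F j p + dl F j q := D.gramq.1 i j p q

theorem q1 {i j : Fin k} (h : i ≠ j) : Q (w i j) = 1 := D.gramq.2 i j h

theorem eq_zero {v : V} (h : ∀ i j, polar Q v (w i j) = 0) : v = 0 := by
  refine D.nd _ fun y => ?_
  have hy : y ∈ Submodule.span F (Set.range fun p : Fin k × Fin k => w p.1 p.2) := by rw [D.ws]; trivial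
  induction hy using Submodule.span_induction with
  | mem x hx =>
    obtain ⟨p, rfl⟩ := hx
    exact h _ _
  | zero => exact polar_zero_right _ _
  | add x y _ _ hx hy => rw [polar_add_right, hx, hy, add_zero]
  | smul a x _ hx => rw [polar_smul_right, hx, smul_zero]

/-- `w p q` determines `{p, q}` -/
theorem eq_of {p q r s : Fin k} (hpq : p ≠ q) (h : w p q = w r s) : (p = r ∧ q = s) ∨ (p = s ∧ q = r) := by
  obtain ⟨x, hx⟩ := D.ex_not {p, q, r, s} (lt_of_le_of_lt (Finset.card_le_four) (by norm_num))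
  simp only [Finset.mem_insert, Finset.mem_singleton, not_or] at hx
  obtain ⟨hxp, hxq, hxr, hxs⟩ := hx
  have key : ∀ i, dl F p i + dl F q i = dl F r i + dl F s i := by
    intro i
    have h1 := congrArg (fun v => polar Q v (w i x)) h
    simp only [D.gram] at h1
    rw [dl_ne (Ne.symm hxp), dl_ne (Ne.symm hxq), dl_ne (Ne.symm hxr), dl_ne (Ne.symm hxs)] at h1
    linear_combination h1
  have kp := key p
  have kq := key q
  rw [dl_self, dl_ne (Ne.symm hpq)] at kp
  rw [dl_self, dl_ne hpq] at kq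
  have h11 : (1 : F) + 1 = 0 := D.add_self 1
  by_cases h1 : r = p
  · subst h1
    by_cases h2 : s = q
    · exact Or.inl ⟨rfl, h2.symm⟩
    · rw [dl_ne hpq, dl_ne h2] at kq
      simp at kq
  · by_cases h3 : s = p
    · subst h3
      by_cases h2 : r = q
      · exact Or.inr ⟨rfl, h2.symm⟩
      · rw [dl_ne h2, dl_ne hpq] at kq
        simp at kq
    · rw [dl_ne h1, dl_ne h3] at kp
      simp at kp

/-- the counting argument: six points against four -/
theorem no_six (z : Fin 6 → Fin k) (hz : Function.Injective z) (a b c d : Fin k)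
    (h : ∀ i j, (∑ t, dl F (z t) i) + (∑ t, dl F (z t) j) =
      (dl F a i + dl F b i + dl F c i + dl F d i) + (dl F a j + dl F b j + dl F c j + dl F d j)) : False := by
  classical
  let f : Fin k → F := fun i => (∑ t, dl F (z t) i) + (dl F a i + dl F b i + dl F c i + dl F d i)
  have hf : ∀ i j, f i = f j := by
    intro i j
    apply D.eq_of_add'
    have h1 := h i j
    have h2 := D.add_self ((dl F a i + dl F b i + dl F c i + dl F d i) + (dl F a j + dl F b j + dl F c j + dl F d j))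
    simp only [f]
    linear_combination h1 + h2
  have hk := D.k9
  have hk10 := D.k10
  let T : Finset (Fin k) := {a, b, c, d}
  have hT : T.card ≤ 4 := Finset.card_le_four
  have hfT : ∀ i, i ∉ T → f i = ∑ t, dl F (z t) i := by
    intro i hi
    simp only [T, Finset.mem_insert, Finset.mem_singleton, not_or] at hi
    simp only [f]
    rw [dl_ne (Ne.symm hi.1), dl_ne (Ne.symm hi.2.1), dl_ne (Ne.symm hi.2.2.1), dl_ne (Ne.symm hi.2.2.2)]
    ring
  have hsum : ∀ i, (∑ t, dl F (z t) i) = if i ∈ Finset.univ.image z then 1 else 0 := by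
    intro i
    by_cases hi : i ∈ Finset.univ.image z
    · rw [if_pos hi]
      obtain ⟨t, -, rfl⟩ := Finset.mem_image.1 hi
      rw [Finset.sum_eq_single t, dl_self]
      · intro s _ hs
        exact dl_ne fun e => hs (hz e)
      · intro ht
        exact absurd (Finset.mem_univ t) ht
    · rw [if_neg hi]
      refine Finset.sum_eq_zero fun t _ => dl_ne fun e => hi ?_
      rw [← e]
      exact Finset.mem_image_of_mem _ (Finset.mem_univ _)
  have hZ : (Finset.univ.image z).card = 6 := by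
    rw [Finset.card_image_of_injective _ hz, Finset.card_univ, Fintype.card_fin]
  -- a point of `Z` outside `T`
  obtain ⟨y, hy1, hy2⟩ : ∃ y ∈ Finset.univ.image z, y ∉ T := by
    by_contra hc
    push Not at hc
    have h1 : Finset.univ.image z ⊆ T := fun x hx => hc x hx
    have h2 := Finset.card_le_card h1
    omega
  have hfy : f y = 1 := by rw [hfT y hy2, hsum, if_pos hy1]
  have hall : ∀ i, f i = 1 := fun i => (hf i y).trans hfy
  have hcov : (Finset.univ : Finset (Fin k)) ⊆ Finset.univ.image z ∪ T := by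
    intro i _
    by_contra hi
    rw [Finset.mem_union, not_or] at hi
    have h1 := hall i
    rw [hfT i hi.2, hsum, if_neg hi.1] at h1
    exact zero_ne_one h1
  have hc1 := Finset.card_le_card hcov
  have hc2 := Finset.card_union_le (Finset.univ.image z) T
  rw [Finset.card_univ, Fintype.card_fin] at hc1
  have hk' : k = 9 := by omega
  subst hk'
  -- the sum of the values
  have hs1 : ∑ i : Fin 9, f i = 1 := by
    rw [Finset.sum_congr rfl fun i _ => hall i, Finset.sum_const, Finset.card_univ, Fintype.card_fin, nsmul_eq_mul]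
    push_cast
    linear_combination 4 * D.ch
  have hd : ∀ a : Fin 9, ∑ i : Fin 9, dl F a i = 1 := by
    intro a
    rw [Finset.sum_eq_single a, dl_self]
    · intro s _ hs
      exact dl_ne (Ne.symm hs)
    · intro ht
      exact absurd (Finset.mem_univ a) ht
  have hs2 : ∑ i : Fin 9, f i = 0 := by
    simp only [f]
    rw [Finset.sum_add_distrib, Finset.sum_add_distrib, Finset.sum_add_distrib, Finset.sum_add_distrib,
      Finset.sum_comm, Finset.sum_congr rfl fun t _ => hd (z t), hd, hd, hd, hd, Finset.sum_const, Finset.card_univ,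
      Fintype.card_fin, nsmul_eq_mul]
    push_cast
    linear_combination 5 * D.ch
  rw [hs1] at hs2
  exact one_ne_zero hs2

end Dat

end Cfsg.Agent.H951.Nt
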