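import Cfsg.Agent.H951.Nt.Comm
import Cfsg.Agent.H29.EP.Kill
import Cfsg.Agent.H883.Bridge
import Cfsg.Agent.H575.NA.Wrap

/-!
# The natural module of the alternating group modulo 2 is excluded for `n ≥ 9`, `n ≠ 10` (S3499 NAT2, helper951)
-/

set_option autoImplicit false

namespace Cfsg.Agent.H951.Nt

open Subgroup Equiv Cfsg Cfsg.Agent.H284 Cfsg.Agent.H419.EP Cfsg.Agent.H614.AMod Cfsg.Agent.H964.AltMod
open Cfsg.Agent.LieClassical.OrthCore Cfsg.Agent.LieClassical.OrthFinite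
open scoped MatrixGroups

section kill

variable {Q : Type*} [Group Q] [Finite Q] {A : Subgroup Q} {Γ : Subgroup (MulAut Q)}
variable {ι : Type} [Fintype ι] [DecidableEq ι] {F : Type*} [Field F]

/-- **the kill** -/
theorem kill (h : EPT A Γ) (hF : ∀ a : F, a = 0 ∨ a = 1) (h2 : (2 : F) = 0) {Qf : (ι → F) → F}
    (m : Model Q (Cfsg.Geo.omegaGL Qf)) (hQ : Cfsg.Geo.IsNondegenerateQuadraticForm Qf) {k : ℕ} (hk : 9 ≤ k)
    (hk10 : k ≠ 10) {s : Q → Perm (Fin k)} {f : Fin k → Fin k → ι → F} (hfam : H575.NA.Fam A m s f) : False := by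
  obtain ⟨q, rfl, hnd⟩ := H883.Bridge.exists_quadraticForm hQ
  have D : Dat q f ((m.hat A).map (glEquiv ι F).toMonoidHom) :=
    { two := hF
      ch := h2
      nd := hnd
      k9 := hk
      k10 := hk10
      w0 := hfam.self
      w1 := hfam.tri
      wne := hfam.ne
      ws := hfam.span
      HO := by
        refine (Subgroup.map_mono (m.hat_le A)).trans ?_
        rw [H883.Bridge.map_omegaGL]
        exact Subgroup.commutator_le_self _
      hA := by
        rintro _ ⟨g, hg, rfl⟩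
        obtain ⟨hgS, hgA⟩ := m.mem_hat.1 hg
        exact ⟨s (m.π ⟨g, hgS⟩), fun i j => hfam.act ⟨g, hgS⟩ hgA i j⟩
      hB := by
        intro σ
        obtain ⟨a, ha, hsa⟩ := hfam.alt σ σ.2
        obtain ⟨g, rfl⟩ := m.surj a
        refine ⟨glEquiv ι F g, ⟨g, (m.mem_hat_iff g).2 ha, rfl⟩, fun i j => ?_⟩
        rw [← hsa]
        exact hfam.act g ha i j }
  obtain ⟨X, hX, hXH, hcomm, hne, T, hT, hTX⟩ := D.core
  rw [← H883.Bridge.map_omegaGL] at hX
  obtain ⟨x, hxS, rfl⟩ := hX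
  obtain ⟨t, ht, rfl⟩ := hT
  have hx : x ∉ m.hat A := fun e => hXH (mem_map_of_mem _ e)
  have hc : ∀ g ∈ m.hat A, x⁻¹ * g * x ∈ m.hat A → g * x = x * g := by
    intro g hg hb
    apply (glEquiv ι F).injective
    have h1 := mem_map_of_mem (glEquiv ι F).toMonoidHom hb
    rw [map_mul, map_mul, map_inv] at h1
    have h3 := hcomm _ (mem_map_of_mem _ hg) h1
    rw [map_mul, map_mul]
    exact h3
  have htx : t * x * t⁻¹ = x⁻¹ := by
    apply (glEquiv ι F).injective
    rw [map_mul, map_mul, map_inv, map_inv]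
    exact hTX
  have e1 : x⁻¹ * t = t * x := by rw [← htx, inv_mul_cancel_right]
  have e2 : t⁻¹ * x = x⁻¹ * t⁻¹ := by
    have h1 := congrArg (fun y => y⁻¹) e1
    simpa only [mul_inv_rev, inv_inv] using h1
  have hmem : x⁻¹ * t * x ∈ m.hat A := by
    refine H29.EP.kill_norm h m hxS hx ht fun g hg hb => ?_
    have h1 := hc g hg hb
    have h3 : x⁻¹ * (t * g * t⁻¹) * x = t * g * t⁻¹ := by
      calc x⁻¹ * (t * g * t⁻¹) * x = (x⁻¹ * t) * g * (t⁻¹ * x) := by group
        _ = (t * x) * g * (x⁻¹ * t⁻¹) := by rw [e1, e2]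
        _ = t * (x * g) * (x⁻¹ * t⁻¹) := by group
        _ = t * (g * x) * (x⁻¹ * t⁻¹) := by rw [h1]
        _ = t * g * t⁻¹ := by group
    rw [h3]
    exact mul_mem (mul_mem ht hg) (inv_mem ht)
  have h3 := hc t ht hmem
  apply hne
  have h4 : x * x = 1 := by
    rw [h3, mul_inv_cancel_right] at htx
    nth_rw 1 [htx]
    exact inv_mul_cancel x
  have h5 := congrArg (glEquiv ι F) h4
  rw [map_mul, map_one] at h5
  exact h5

end kill

/-- **NAT2** (task 6230) -/
theorem nat2 {Q : Type} [Group Q] [Finite Q] (_ : IsSimpleGroup Q) {A : Subgroup Q} {Γ : Subgroup (MulAut Q)}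
    (h : EPT A Γ) {F : Type} [Field F] [Fintype F] {ι : Type} [Fintype ι] [DecidableEq ι] {Qf : (ι → F) → F}
    (m : Model Q (Cfsg.Geo.omegaGL Qf)) (hQ : Cfsg.Geo.IsNondegenerateQuadraticForm Qf) {P : Subgroup (GL ι F)}
    (hP : Cfsg.Geo.IsResidualCore (m.hat A) P) (hF : Nat.card F = 2) {c : ℕ} (hc : 9 ≤ c) (hc10 : c ≠ 10)
    (φ : P ≃* alternatingGroup (Fin c)) {w : Fin c → Fin c → (ι → F)} (hw : NatM (rep φ) w) : False := by
  have h2 : (2 : F) = 0 := by
    have h1 := Nat.cast_card_eq_zero F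
    rw [← Nat.card_eq_fintype_card, hF] at h1
    exact_mod_cast h1
  have h3 : ∀ a : F, a = 0 ∨ a = 1 := by
    classical
    intro a
    by_contra hne
    rw [not_or] at hne
    have h1 : ({0, 1, a} : Finset F).card = 3 := by
      rw [Finset.card_insert_of_notMem, Finset.card_insert_of_notMem, Finset.card_singleton]
      · rw [Finset.mem_singleton]
        exact Ne.symm hne.2
      · rw [Finset.mem_insert, Finset.mem_singleton, not_or]
        exact ⟨zero_ne_one, Ne.symm hne.1⟩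
    have h4 := Finset.card_le_univ ({0, 1, a} : Finset F)
    rw [h1, ← Nat.card_eq_fintype_card, hF] at h4
    omega
  obtain ⟨s, hs⟩ := H575.NA.exists_fam m h3 hP.le (fun g hg x hx => hP.normal g hg x hx) (by omega) φ hw
  exact kill h h3 h2 m hQ hc hc10 hs

end Cfsg.Agent.H951.Nt
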